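import Cfsg.Agent.H2.CoprimeGen
import Cfsg.Agent.H2.Hall

/-! Solvable signalizer functors: definitions and elementary properties. -/

set_option autoImplicit false

namespace Cfsg.Agent.SF

open Subgroup Cfsg.Agent.H2
open scoped commutatorElement Pointwise

variable {G : Type*} [Group G]

/-- `θ` is a solvable `A`-signalizer functor, `A` an elementary abelian `r`-group. -/
structure Fn (r : ℕ) (A : Subgroup G) (θ : G → Subgroup G) : Prop where
  comm : IsMulCommutative A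
  exp : ∀ a ∈ A, a ^ r = 1
  cen : ∀ a ∈ A, a ≠ 1 → θ a ≤ centralizer {a}
  cop : ∀ a ∈ A, a ≠ 1 → ¬ r ∣ Nat.card (θ a)
  inv : ∀ a ∈ A, a ≠ 1 → A ≤ normalizer (θ a : Set G)
  solv : ∀ a ∈ A, a ≠ 1 → Group.IsSolvable (θ a)
  bal : ∀ a ∈ A, a ≠ 1 → ∀ b ∈ A, b ≠ 1 → θ a ⊓ centralizer {b} ≤ θ b

/-- `X` is a `θ`-subgroup. -/
structure IsT (r : ℕ) (A : Subgroup G) (θ : G → Subgroup G) (X : Subgroup G) : Prop where
  inv : A ≤ normalizer (X : Set G)
  cop : ¬ r ∣ Nat.card X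
  solv : Group.IsSolvable X
  le : ∀ a ∈ A, a ≠ 1 → X ⊓ centralizer {a} ≤ θ a

/-- `θ` is complete. -/
def Complete (r : ℕ) (A : Subgroup G) (θ : G → Subgroup G) : Prop :=
  ∃ X, IsT r A θ X ∧ ∀ a ∈ A, a ≠ 1 → θ a ≤ X

/-- For `B ≤ A` nontrivial, the subgroup `θ(B)`, the intersection of the `θ b`. -/
def thB (θ : G → Subgroup G) (B : Subgroup G) : Subgroup G := ⨅ b ∈ B, ⨅ _ : b ≠ 1, θ b

theorem mem_thB {θ : G → Subgroup G} {B : Subgroup G} {x : G} :
    x ∈ thB θ B ↔ ∀ b ∈ B, b ≠ 1 → x ∈ θ b := by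
  simp [thB, mem_iInf]

theorem thB_le {θ : G → Subgroup G} {B : Subgroup G} {b : G} (hb : b ∈ B) (h1 : b ≠ 1) :
    thB θ B ≤ θ b := fun _ hx => mem_thB.mp hx b hb h1

theorem thB_anti {θ : G → Subgroup G} {B B' : Subgroup G} (h : B ≤ B') : thB θ B' ≤ thB θ B :=
  fun _ hx => mem_thB.mpr fun b hb h1 => mem_thB.mp hx b (h hb) h1

theorem coprime_of_exp [Finite G] {r : ℕ} [hr : Fact r.Prime] {B : Subgroup G}
    (hB : ∀ a ∈ B, a ^ r = 1) {n : ℕ} (hn : ¬ r ∣ n) : (Nat.card B).Coprime n := by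
  obtain ⟨k, hk⟩ := IsPGroup.iff_card.mp (isPGroup_of_forall_pow_eq_one hB)
  rw [hk]
  exact Nat.Coprime.pow_left _ ((Nat.Prime.coprime_iff_not_dvd hr.out).mpr hn)

theorem not_isCyclic_of_card [Finite G] {r : ℕ} [hr : Fact r.Prime] {B : Subgroup G}
    (hB : ∀ a ∈ B, a ^ r = 1) (h : r ^ 2 ≤ Nat.card B) : ¬ IsCyclic B := by
  intro hc
  obtain ⟨g, rfl⟩ := (Subgroup.isCyclic_iff_exists_zpowers_eq_top B).mp hc
  rw [Nat.card_zpowers] at h
  have h1 := Nat.le_of_dvd hr.out.pos (orderOf_dvd_of_pow_eq_one (hB g (mem_zpowers g)))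
  have h2 := hr.out.one_lt
  nlinarith

theorem centralizer_zpowers (a : G) : centralizer (zpowers a : Set G) = centralizer {a} := by
  rw [zpowers_eq_closure, centralizer_closure]

namespace IsT

variable {r : ℕ} {A : Subgroup G} {θ : G → Subgroup G} {X Y : Subgroup G}

theorem mono [Finite G] (h : IsT r A θ X) (hYX : Y ≤ X) (hA : A ≤ normalizer (Y : Set G)) :
    IsT r A θ Y :=
  ⟨hA, fun h1 => h.cop (h1.trans (card_dvd_of_le hYX)), isSolvable_of_le hYX h.solv,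
    fun a ha h1 => (inf_le_inf_right _ hYX).trans (h.le a ha h1)⟩

theorem inf [Finite G] (h : IsT r A θ X) (hA : A ≤ normalizer (Y : Set G)) : IsT r A θ (X ⊓ Y) :=
  h.mono inf_le_left (le_normalizer_inf h.inv hA)

theorem mem (h : IsT r A θ X) {a x : G} (ha : a ∈ A) (h1 : a ≠ 1) (hx : x ∈ X)
    (hc : x * a = a * x) : x ∈ θ a :=
  h.le a ha h1 ⟨hx, mem_centralizer_singleton_iff.mpr hc⟩

theorem inf_le_thB (h : IsT r A θ X) {B : Subgroup G} (hB : B ≤ A) :
    X ⊓ centralizer (B : Set G) ≤ thB θ B := fun _ hx =>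
  mem_thB.mpr fun b hb h1 => h.mem (hB hb) h1 hx.1 (hx.2 b hb).symm

theorem of_le {φ : G → Subgroup G} (h : IsT r A φ X) (hle : ∀ a ∈ A, a ≠ 1 → φ a ≤ θ a) :
    IsT r A θ X :=
  ⟨h.inv, h.cop, h.solv, fun a ha h1 => (h.le a ha h1).trans (hle a ha h1)⟩

end IsT

theorem isT_bot {r : ℕ} [hr : Fact r.Prime] (A : Subgroup G) (θ : G → Subgroup G) :
    IsT r A θ ⊥ :=
  ⟨le_normalizer_of_normal, by rw [card_bot]; exact hr.out.not_dvd_one, inferInstance,
    fun _ _ _ => inf_le_left.trans bot_le⟩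

namespace Fn

variable {r : ℕ} {A : Subgroup G} {θ : G → Subgroup G} (h : Fn r A θ)
include h

theorem commute {a b : G} (ha : a ∈ A) (hb : b ∈ A) : a * b = b * a :=
  have := h.comm
  setLike_mul_comm ha hb

theorem le_centralizer {B : Subgroup G} (hB : B ≤ A) : A ≤ centralizer (B : Set G) :=
  fun _ ha _ hb => h.commute (hB hb) ha

theorem le_normalizer_cen {B : Subgroup G} (hB : B ≤ A) :
    A ≤ normalizer ((centralizer (B : Set G) : Subgroup G) : Set G) :=
  (h.le_centralizer hB).trans le_normalizer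

theorem le_normalizer_cen' {a : G} (ha : a ∈ A) :
    A ≤ normalizer ((centralizer {a} : Subgroup G) : Set G) :=
  (show A ≤ centralizer {a} from fun _ hb =>
    mem_centralizer_singleton_iff.mpr (h.commute hb ha)).trans le_normalizer

theorem isT {a : G} (ha : a ∈ A) (h1 : a ≠ 1) : IsT r A θ (θ a) :=
  ⟨h.inv a ha h1, h.cop a ha h1, h.solv a ha h1, h.bal a ha h1⟩

theorem thB_eq {B : Subgroup G} (hB : B ≤ A) {b : G} (hb : b ∈ B) (h1 : b ≠ 1) :
    thB θ B = θ b ⊓ centralizer (B : Set G) := by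
  refine le_antisymm (le_inf (thB_le hb h1) fun x hx c hc => ?_) ((h.isT (hB hb) h1).inf_le_thB hB)
  by_cases hc1 : c = 1
  · simp [hc1]
  · exact (mem_centralizer_singleton_iff.mp (h.cen c (hB hc) hc1 (mem_thB.mp hx c hc hc1))).symm

theorem thB_le_cen {B : Subgroup G} (hB : B ≤ A) (hB1 : B ≠ ⊥) :
    thB θ B ≤ centralizer (B : Set G) := by
  obtain ⟨⟨b, hb⟩, h1⟩ := ne_bot_iff_exists_ne_one.mp hB1
  rw [h.thB_eq hB hb fun h2 => h1 (Subtype.ext h2)]
  exact inf_le_right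

theorem isT_thB [Finite G] {B : Subgroup G} (hB : B ≤ A) (hB1 : B ≠ ⊥) : IsT r A θ (thB θ B) := by
  obtain ⟨⟨b, hb⟩, h1⟩ := ne_bot_iff_exists_ne_one.mp hB1
  have h2 : b ≠ 1 := fun h2 => h1 (Subtype.ext h2)
  rw [h.thB_eq hB hb h2]
  exact (h.isT (hB hb) h2).inf (h.le_normalizer_cen hB)

variable [Finite G] [hr : Fact r.Prime]

theorem coprime {B X : Subgroup G} (hB : B ≤ A) (hX : IsT r A θ X) :
    (Nat.card B).Coprime (Nat.card X) :=
  coprime_of_exp (fun a ha => h.exp a (hB ha)) hX.cop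

theorem solvA {B : Subgroup G} (hB : B ≤ A) : Group.IsSolvable B :=
  Group.isSolvable_of_comm fun a b => Subtype.ext (h.commute (hB a.2) (hB b.2))

/-- The product of two `θ`-subgroups one of which normalizes the other. -/
theorem isT_sup {X Y : Subgroup G} (hX : IsT r A θ X) (hY : IsT r A θ Y)
    (hXY : X ≤ normalizer (Y : Set G)) : IsT r A θ (X ⊔ Y) := by
  refine ⟨le_normalizer_sup hX.inv hY.inv, fun h1 => ?_, ?_, fun a ha h1 x hx => ?_⟩
  · have h2 := h1.trans ⟨_, (card_sup_mul_card_inf hXY).symm⟩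
    exact ((Nat.Prime.dvd_mul hr.out).mp h2).elim hX.cop hY.cop
  · have hn : (Y.subgroupOf (X ⊔ Y)).Normal :=
      normal_subgroupOf_of_le_normalizer (sup_le hXY le_normalizer)
    have h1 : Group.IsSolvable (Y.subgroupOf (X ⊔ Y)) :=
      isSolvable_of_mulEquiv (subgroupOfEquivOfLe le_sup_right).symm hY.solv
    have := hX.solv
    have h2 : Group.IsSolvable (↥(X ⊔ Y) ⧸ Y.subgroupOf (X ⊔ Y)) := by
      refine Group.isSolvable_of_surjective
        (f := (QuotientGroup.mk' _).comp (inclusion (le_sup_left : X ≤ X ⊔ Y))) fun q => ?_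
      obtain ⟨⟨z, hz⟩, rfl⟩ := QuotientGroup.mk'_surjective _ q
      obtain ⟨x, hx, y, hy, rfl⟩ := (mem_sup_of_le_normalizer hXY).mp hz
      exact ⟨⟨x, hx⟩, QuotientGroup.eq.mpr (by simpa [mem_subgroupOf] using hy)⟩
    exact Group.isSolvable_of_ker_le_range (Y.subgroupOf (X ⊔ Y)).subtype
      (QuotientGroup.mk' (Y.subgroupOf (X ⊔ Y))) (by simp)
  · obtain ⟨u, hu, v, hv, rfl⟩ := (mem_sup_of_le_normalizer hXY).mp hx.1
    have hc := mem_centralizer_singleton_iff.mp hx.2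
    have hza : zpowers a ≤ A := zpowers_le.mpr ha
    have hXY' := hX.inf hY.inv
    obtain ⟨c, hc', n, hn, rfl⟩ := exists_centralizer_mul (A := zpowers a) (N := X ⊓ Y)
      (hza.trans hXY'.inv) (h.coprime hza hXY') (.inr hXY'.solv) (x := u) (fun b hb => by
        have hb' : b * (u * v) = u * v * b := by
          obtain ⟨i, rfl⟩ := hb
          exact (Commute.zpow_right (show Commute (u * v) a from hc) i).symm
        rw [show u⁻¹ * b * u * b⁻¹ = u⁻¹ * (b * u * b⁻¹) by group]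
        refine mem_inf.mpr ⟨mul_mem (inv_mem hu) (conj_mem_of_le_normalizer hX.inv (hza hb) hu), ?_⟩
        have : u⁻¹ * (b * u * b⁻¹) = v * (b * v * b⁻¹)⁻¹ := by
          calc _ = u⁻¹ * (b * (u * v)) * v⁻¹ * b⁻¹ := by group
            _ = _ := by rw [hb']; group
        rw [this]
        exact mul_mem hv (inv_mem (conj_mem_of_le_normalizer hY.inv (hza hb) hv)))
    have hca : c * a = a * c := (hc' a (mem_zpowers a)).symm
    have hcX : c ∈ X := by simpa using mul_mem hu (inv_mem hn.1)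
    rw [mul_assoc]
    refine mul_mem (hX.mem ha h1 hcX hca) (hY.mem ha h1 (mul_mem hn.2 hv) ?_)
    calc n * v * a = c⁻¹ * (c * n * v * a) := by group
      _ = c⁻¹ * (a * c) * (n * v) := by rw [hc]; group
      _ = a * (n * v) := by rw [← hca]; group

/-- A `θ`-subgroup is generated by the centralizers of the elements of a noncyclic `B ≤ A`. -/
theorem le_of_forall {B X L : Subgroup G} (hB : B ≤ A) (hB2 : r ^ 2 ≤ Nat.card B)
    (hX : IsT r A θ X) (hL : ∀ b ∈ B, b ≠ 1 → X ⊓ centralizer {b} ≤ L) : X ≤ L :=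
  le_of_forall_centralizer_le ⟨⟨fun a b => Subtype.ext (h.commute (hB a.2) (hB b.2))⟩⟩
    (not_isCyclic_of_card (fun a ha => h.exp a (hB ha)) hB2) (hB.trans hX.inv) (h.coprime hB hX) hL

/-- A `θ`-subgroup is generated by the centralizers of the hyperplanes of a nontrivial `B ≤ A`. -/
theorem le_of_forall_hyp {B X L : Subgroup G} (hB : B ≤ A) (hB1 : B ≠ ⊥) (hX : IsT r A θ X)
    (hL : ∀ D ≤ B, Nat.card B = Nat.card D * r → X ⊓ centralizer (D : Set G) ≤ L) : X ≤ L :=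
  le_of_forall_centralizer_hyperplane_le
    ⟨⟨fun a b => Subtype.ext (h.commute (hB a.2) (hB b.2))⟩⟩ (fun a ha => h.exp a (hB ha)) hB1
    (hB.trans hX.inv) (h.coprime hB hX) hL

/-- If a `θ`-subgroup contains `θ b` for all nontrivial `b` in a noncyclic `B`, `θ` is complete. -/
theorem complete_of_noncyclic {B M : Subgroup G} (hB : B ≤ A) (hB2 : r ^ 2 ≤ Nat.card B)
    (hM : IsT r A θ M) (hL : ∀ b ∈ B, b ≠ 1 → θ b ≤ M) : Complete r A θ :=
  ⟨M, hM, fun a ha h1 => h.le_of_forall hB hB2 (h.isT ha h1) fun b hb h2 =>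
    (h.bal a ha h1 b (hB hb) h2).trans (hL b hb h2)⟩

/-- In a complete functor every `θ`-subgroup lies in the completion. -/
theorem le_of_complete (hA2 : r ^ 2 ≤ Nat.card A) {M X : Subgroup G}
    (hL : ∀ a ∈ A, a ≠ 1 → θ a ≤ M) (hX : IsT r A θ X) : X ≤ M :=
  h.le_of_forall le_rfl hA2 hX fun a ha h1 => (hX.le a ha h1).trans (hL a ha h1)

omit hr in
/-- Conjugation by elements of `θ(A)` permutes the `θ`-subgroups. -/
theorem isT_conj {X : Subgroup G} (hX : IsT r A θ X) {c : G} (hc : c ∈ thB θ A) (hA1 : A ≠ ⊥) :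
    IsT r A θ (MulAut.conj c • X) := by
  have hcc := h.thB_le_cen le_rfl hA1 hc
  refine ⟨le_normalizer_of_conj_mem ?_, by rw [card_conj_smul]; exact hX.cop,
    isSolvable_map hX.solv _, ?_⟩
  · rintro a ha _ ⟨x, hx, rfl⟩
    refine ⟨a * x * a⁻¹, conj_mem_of_le_normalizer hX.inv ha hx, ?_⟩
    have := hcc a ha
    change c * (a * x * a⁻¹) * c⁻¹ = a * (c * x * c⁻¹) * a⁻¹
    calc _ = (c * a) * x * (c * a)⁻¹ := by group
      _ = _ := by rw [← this]; group
  · rintro a ha h1 _ ⟨⟨x, hx, rfl⟩, h2⟩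
    have h3 := mem_centralizer_singleton_iff.mp h2
    have h4 := hcc a ha
    have h5 := mem_thB.mp hc a ha h1
    refine mul_mem (mul_mem h5 (hX.mem ha h1 hx ?_)) (inv_mem h5)
    change c * x * c⁻¹ * a = a * (c * x * c⁻¹) at h3
    calc x * a = c⁻¹ * (c * x * c⁻¹ * (c * a)) := by group
      _ = c⁻¹ * (c * x * c⁻¹ * a) * c := by rw [← h4]; group
      _ = c⁻¹ * (a * c) * x := by rw [h3]; group
      _ = a * x := by rw [h4]; group

/-- Intersection of the functor with an `A`-invariant subgroup. -/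
theorem restrict {N : Subgroup G} (hN : A ≤ normalizer (N : Set G)) :
    Fn r A fun a => θ a ⊓ N :=
  ⟨h.comm, h.exp, fun a ha h1 => inf_le_left.trans (h.cen a ha h1),
    fun _ ha h1 => ((h.isT ha h1).inf hN).cop, fun _ ha h1 => ((h.isT ha h1).inf hN).inv,
    fun _ ha h1 => ((h.isT ha h1).inf hN).solv, fun a ha h1 b hb h2 _ hx =>
      ⟨h.bal a ha h1 b hb h2 ⟨hx.1.1, hx.2⟩, hx.1.2⟩⟩

end Fn

end Cfsg.Agent.SF
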