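import Cfsg.Agent.SF.A

/-! Solvable signalizer functors: reduction to a minimal counterexample. -/

set_option autoImplicit false

namespace Cfsg.Agent.SF

open Subgroup Cfsg.Agent.H2
open scoped commutatorElement Pointwise

universe u

variable {G : Type*} [Group G]

/-- A minimal counterexample: rank three, not complete, all proper subfunctors complete, and
locally complete. -/
structure Min (r : ℕ) (A : Subgroup G) (θ : G → Subgroup G) : Prop extends Fn r A θ where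
  card : Nat.card A = r ^ 3
  ncomp : ¬ Complete r A θ
  sub : ∀ φ : G → Subgroup G, Fn r A φ → (∀ a ∈ A, a ≠ 1 → φ a ≤ θ a) →
    (∃ a ∈ A, a ≠ 1 ∧ φ a ≠ θ a) → Complete r A φ
  lc : ∀ X : Subgroup G, IsT r A θ X → X ≠ ⊥ →
    Complete r A fun a => θ a ⊓ normalizer (X : Set G)

/-- The size of a functor. -/
noncomputable def nrm (A : Subgroup G) (θ : G → Subgroup G) : ℕ :=
  Set.ncard {t : G × G | t.1 ∈ A ∧ t.1 ≠ 1 ∧ t.2 ∈ θ t.1}

theorem nrm_lt [Finite G] {A : Subgroup G} {θ φ : G → Subgroup G}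
    (h1 : ∀ a ∈ A, a ≠ 1 → φ a ≤ θ a) (h2 : ∃ a ∈ A, a ≠ 1 ∧ φ a ≠ θ a) : nrm A φ < nrm A θ := by
  obtain ⟨a, ha, ha1, hne⟩ := h2
  obtain ⟨x, hx, hx'⟩ := SetLike.exists_of_lt (lt_of_le_of_ne (h1 a ha ha1) hne)
  refine Set.ncard_lt_ncard ⟨fun t ht => ⟨ht.1, ht.2.1, h1 _ ht.1 ht.2.1 ht.2.2⟩, fun h => ?_⟩
  exact hx' (h (show (a, x) ∈ _ from ⟨ha, ha1, hx⟩)).2.2

section quot

variable {r : ℕ} {A : Subgroup G} {θ : G → Subgroup G} {X : Subgroup G}

/-- The natural map from the normalizer of `X` onto its quotient by `X`. -/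
abbrev qm (X : Subgroup G) :
    normalizer (X : Set G) →* normalizer (X : Set G) ⧸ X.subgroupOf (normalizer (X : Set G)) :=
  QuotientGroup.mk' _

theorem qm_eq_iff {x y : normalizer (X : Set G)} : qm X x = qm X y ↔ (x : G)⁻¹ * y ∈ X :=
  QuotientGroup.eq

/-- The quotient functor. -/
def qth (A : Subgroup G) (θ : G → Subgroup G) (X : Subgroup G)
    (q : normalizer (X : Set G) ⧸ X.subgroupOf (normalizer (X : Set G))) :
    Subgroup (normalizer (X : Set G) ⧸ X.subgroupOf (normalizer (X : Set G))) :=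
  ⨆ (a : normalizer (X : Set G)) (_ : (a : G) ∈ A) (_ : qm X a = q),
    ((θ a).subgroupOf _).map (qm X)

variable [Finite G] [hr : Fact r.Prime]

theorem qm_inj (h : Fn r A θ) (hX : IsT r A θ X) {a b : normalizer (X : Set G)}
    (ha : (a : G) ∈ A) (hb : (b : G) ∈ A) (hab : qm X a = qm X b) : a = b := by
  have h1 := disjoint_iff.mp (disjoint_of_coprime_natCard (h.coprime le_rfl hX))
  have h2 : (a : G)⁻¹ * b ∈ A ⊓ X := mem_inf.mpr ⟨mul_mem (inv_mem ha) hb, qm_eq_iff.mp hab⟩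
  rw [h1, mem_bot, inv_mul_eq_one] at h2
  exact Subtype.ext h2

theorem qth_eq (h : Fn r A θ) (hX : IsT r A θ X) {a : normalizer (X : Set G)}
    (ha : (a : G) ∈ A) : qth A θ X (qm X a) = ((θ a).subgroupOf _).map (qm X) := by
  refine le_antisymm (iSup_le fun b => iSup_le fun hb => iSup_le fun hab => ?_)
    (le_iSup_of_le a (le_iSup_of_le ha (le_iSup_of_le rfl le_rfl)))
  rw [qm_inj h hX hb ha hab]

theorem fn_quot (h : Fn r A θ) (hX : IsT r A θ X) :
    Fn r ((A.subgroupOf _).map (qm X)) (qth A θ X) := by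
  have key : ∀ q ∈ (A.subgroupOf _).map (qm X), q ≠ 1 → ∃ a : normalizer (X : Set G),
      (a : G) ∈ A ∧ (a : G) ≠ 1 ∧ q = qm X a := by
    rintro _ ⟨a, ha, rfl⟩ h1
    exact ⟨a, ha, fun h2 => h1 (by rw [show a = 1 from Subtype.ext h2, map_one]), rfl⟩
  refine ⟨⟨⟨?_⟩⟩, ?_, fun q hq h1 => ?_, fun q hq h1 => ?_, fun q hq h1 => ?_, fun q hq h1 => ?_,
    fun q hq h1 q' hq' h1' => ?_⟩
  · rintro ⟨_, a, ha, rfl⟩ ⟨_, b, hb, rfl⟩
    refine Subtype.ext ?_
    change qm X a * qm X b = qm X b * qm X a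
    rw [← map_mul, ← map_mul, show a * b = b * a from Subtype.ext (h.commute ha hb)]
  · rintro _ ⟨a, ha, rfl⟩
    rw [← map_pow, show a ^ r = 1 from Subtype.ext (h.exp a ha), map_one]
  all_goals obtain ⟨a, ha, ha1, rfl⟩ := key q hq h1
  all_goals rw [qth_eq h hX ha]
  · rintro _ ⟨x, hx, rfl⟩
    rw [mem_centralizer_singleton_iff, ← map_mul, ← map_mul, show x * a = a * x from
      Subtype.ext (mem_centralizer_singleton_iff.mp (h.cen a ha ha1 hx))]
  · intro h2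
    exact h.cop a ha ha1 (h2.trans ((card_map_dvd _ _).trans
      (card_comap_dvd_of_injective _ _ (subtype_injective _))))
  · refine le_normalizer_of_conj_mem ?_
    rintro _ ⟨b, hb, rfl⟩ _ ⟨x, hx, rfl⟩
    exact ⟨b * x * b⁻¹, conj_mem_of_le_normalizer (h.inv a ha ha1) hb hx, by simp⟩
  · refine isSolvable_map ?_ _
    have := h.solv a ha ha1
    exact Group.isSolvable_of_isSolvable_injective (f := MonoidHom.codRestrict
      ((normalizer (X : Set G)).subtype.comp ((θ a).subgroupOf _).subtype) (θ a) fun x => x.2)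
      fun x y hxy => Subtype.ext (Subtype.ext (congrArg (fun z : θ a => (z : G)) hxy))
  · obtain ⟨b, hb, hb1, rfl⟩ := key q' hq' h1'
    rw [qth_eq h hX hb]
    rintro _ ⟨⟨x, hx, rfl⟩, h2⟩
    have h3 := mem_centralizer_singleton_iff.mp h2
    have hzb : zpowers (b : G) ≤ A := zpowers_le.mpr hb
    obtain ⟨c, hc, n, hn, h4⟩ := exists_centralizer_mul (A := zpowers (b : G)) (N := X)
      (hzb.trans hX.inv) (h.coprime hzb hX) (.inr hX.solv) (x := (x : G)) (by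
        rintro _ ⟨i, rfl⟩
        have h4 : qm X (b ^ i * x⁻¹ * (b ^ i)⁻¹) = qm X x⁻¹ := by
          have h5 : Commute (qm X x) (qm X b) := h3
          rw [map_mul, map_mul, map_inv, map_inv, map_zpow, ← (h5.inv_left.zpow_right i).eq,
            mul_inv_cancel_right]
        have h5 := qm_eq_iff.mp h4
        have h6 := (mem_normalizer_iff.mp (inv_mem x.2) _).mp h5
        have h7 := (mem_normalizer_iff.mp x.2 _).mp (inv_mem h5)
        have h8 := (mem_normalizer_iff.mp (inv_mem x.2) _).mp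
          (show ((b : G) ^ i * x * ((b : G) ^ i)⁻¹) * (x : G)⁻¹ ∈ X by simpa [mul_assoc] using h5)
        simpa [mul_assoc] using h8)
    have hY := h.isT_sup ((h.isT ha ha1).inf (le_normalizer_normalizer hX.inv)) hX inf_le_right
    have hcN : c ∈ normalizer (X : Set G) := by
      have := mul_mem x.2 (inv_mem (le_normalizer hn))
      rwa [h4, mul_inv_cancel_right] at this
    have hcY : c ∈ θ a ⊓ normalizer (X : Set G) ⊔ X := by
      have := mul_mem (mem_sup_left (T := X) (show (x : G) ∈ θ a ⊓ normalizer (X : Set G) from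
        ⟨hx, x.2⟩)) (inv_mem (mem_sup_right hn))
      rwa [h4, mul_inv_cancel_right] at this
    refine ⟨⟨c, hcN⟩, hY.mem hb hb1 hcY (hc b (mem_zpowers _)).symm, qm_eq_iff.mpr ?_⟩
    change c⁻¹ * x ∈ X
    rwa [h4, inv_mul_cancel_left]

theorem card_quot (h : Fn r A θ) (hX : IsT r A θ X) :
    Nat.card ((A.subgroupOf _).map (qm X)) = Nat.card A := by
  rw [← Nat.card_congr (subgroupOfEquivOfLe hX.inv).toEquiv]
  refine (Nat.card_congr (Equiv.ofBijective ((qm X).subgroupMap _)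
    ⟨fun a b hab => ?_, MonoidHom.subgroupMap_surjective _ _⟩)).symm
  exact Subtype.ext (qm_inj h hX a.2 b.2 (congrArg Subtype.val hab))

theorem nrm_quot (h : Fn r A θ) (hA : r ^ 2 ≤ Nat.card A) (hX : IsT r A θ X) (h0 : X ≠ ⊥) :
    nrm ((A.subgroupOf _).map (qm X)) (qth A θ X) < nrm A θ := by
  let S : Set (normalizer (X : Set G) × normalizer (X : Set G)) :=
    {t | (t.1 : G) ∈ A ∧ (t.1 : G) ≠ 1 ∧ (t.2 : G) ∈ θ t.1}
  have h1 : S.ncard ≤ nrm A θ := Set.ncard_le_ncard_of_injOn (fun t => ((t.1 : G), (t.2 : G)))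
    (fun t ht => ht) fun t _ t' _ e => Prod.ext (Subtype.ext (congrArg Prod.fst e))
      (Subtype.ext (congrArg Prod.snd e))
  refine lt_of_lt_of_le ?_ h1
  have h2 : nrm ((A.subgroupOf _).map (qm X)) (qth A θ X) ≤
      ((fun t => (qm X t.1, qm X t.2)) '' S).ncard := by
    refine Set.ncard_le_ncard ?_
    rintro ⟨_, y⟩ ⟨⟨a, ha, rfl⟩, ha1, hy⟩
    rw [qth_eq h hX ha] at hy
    obtain ⟨x, hx, rfl⟩ := hy
    exact ⟨(a, x), ⟨ha, fun h2 => ha1 (by rw [show a = 1 from Subtype.ext h2, map_one]), hx⟩, rfl⟩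
  refine lt_of_le_of_lt h2 (lt_of_le_of_ne (Set.ncard_image_le S.toFinite) fun h3 => h0 ?_)
  have h4 := Set.injOn_of_ncard_image_eq h3
  refine le_bot_iff.mp (h.le_of_forall le_rfl hA hX fun a ha ha1 x hx => ?_)
  have h5 := h4 (show ((⟨a, hX.inv ha⟩, ⟨x, le_normalizer hx.1⟩) : _ × _) ∈ S from
    ⟨ha, ha1, hX.le a ha ha1 hx⟩) (show ((⟨a, hX.inv ha⟩, 1) : _ × _) ∈ S from
    ⟨ha, ha1, one_mem _⟩) (Prod.ext rfl (qm_eq_iff.mpr (by simpa using hx.1)))
  exact congrArg (fun t => (t.2 : G)) h5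

theorem complete_of_quot (h : Fn r A θ) (hX : IsT r A θ X)
    (hc : Complete r ((A.subgroupOf _).map (qm X)) (qth A θ X)) :
    Complete r A fun a => θ a ⊓ normalizer (X : Set G) := by
  obtain ⟨Y, hY, hY'⟩ := hc
  have hne : ∀ a : normalizer (X : Set G), (a : G) ∈ A → (a : G) ≠ 1 → qm X a ≠ 1 :=
    fun a ha h1 h2 => h1 (congrArg Subtype.val (qm_inj h hX ha (one_mem _) (h2.trans (map_one _).symm)))
  refine ⟨(Y.comap (qm X)).map (normalizer (X : Set G)).subtype, ⟨le_normalizer_of_conj_mem ?_,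
    fun h1 => ?_, isSolvable_map ?_ _, ?_⟩, ?_⟩
  · rintro a ha _ ⟨y, hy, rfl⟩
    refine ⟨⟨a, hX.inv ha⟩ * y * (⟨a, hX.inv ha⟩)⁻¹, ?_, rfl⟩
    rw [SetLike.mem_coe, mem_comap, map_mul, map_mul, map_inv]
    exact conj_mem_of_le_normalizer hY.inv ⟨_, ha, rfl⟩ hy
  · rw [card_map_of_injective (subtype_injective _), card_comap_mk',
      Nat.card_congr (subgroupOfEquivOfLe le_normalizer).toEquiv] at h1
    exact ((Nat.Prime.dvd_mul hr.out).mp h1).elim hY.cop hX.cop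
  · have h1 := hY.solv
    have h2 : Group.IsSolvable (X.subgroupOf (normalizer (X : Set G))) :=
      isSolvable_of_mulEquiv (subgroupOfEquivOfLe le_normalizer).symm hX.solv
    have h3 : X.subgroupOf (normalizer (X : Set G)) ≤ Y.comap (qm X) := fun x hx => by
      rw [mem_comap, (QuotientGroup.eq_one_iff x).mpr hx |> (show qm X x = 1 from ·)]
      exact one_mem _
    refine Group.isSolvable_of_ker_le_range (inclusion h3) ((qm X).subgroupComap Y) fun x hx => ?_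
    exact ⟨⟨x, (QuotientGroup.eq_one_iff _).mp (congrArg Subtype.val hx)⟩, rfl⟩
  · rintro a ha h1 _ ⟨⟨y, hy, rfl⟩, h2⟩
    have h3 := mem_centralizer_singleton_iff.mp h2
    have h4 := hY.mem (a := qm X ⟨a, hX.inv ha⟩) ⟨_, ha, rfl⟩ (hne _ ha h1) hy (by
      rw [← map_mul, ← map_mul]; exact congrArg _ (Subtype.ext h3))
    rw [qth_eq h hX ha] at h4
    obtain ⟨x, hx, h5⟩ := h4
    have hZ := h.isT_sup ((h.isT ha h1).inf (le_normalizer_normalizer hX.inv)) hX inf_le_right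
    refine ⟨hZ.mem ha h1 ?_ h3, y.2⟩
    have := mul_mem (mem_sup_left (T := X) (show (x : G) ∈ θ a ⊓ normalizer (X : Set G) from
      ⟨hx, x.2⟩)) (mem_sup_right (qm_eq_iff.mp h5))
    simpa using this
  · intro a ha h1 x hx
    refine ⟨⟨x, hx.2⟩, hY' (qm X ⟨a, hX.inv ha⟩) ⟨_, ha, rfl⟩ (hne _ ha h1) ?_, rfl⟩
    rw [qth_eq h hX ha]
    exact ⟨_, hx.1, rfl⟩

end quot

theorem complete_of_core {r : ℕ} [hr : Fact r.Prime]
    (core : ∀ (G : Type u) [Group G] [Finite G] (A : Subgroup G) (θ : G → Subgroup G),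
      ¬ Min r A θ) (n : ℕ) : ∀ (G : Type u) [Group G] [Finite G] (A : Subgroup G)
      (θ : G → Subgroup G), nrm A θ < n → Fn r A θ → Nat.card A = r ^ 3 → Complete r A θ := by
  induction n with
  | zero => intro G _ _ A θ h; exact absurd h (Nat.not_lt_zero _)
  | succ n ih =>
    intro G _ _ A θ hn h hA
    by_contra hcon
    refine core G A θ ⟨h, hA, hcon, fun φ hφ h1 h2 => ih G A φ
      (lt_of_lt_of_le (nrm_lt h1 h2) (Nat.le_of_lt_succ hn)) hφ hA, fun X hX h0 => ?_⟩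
    exact complete_of_quot h hX (ih _ _ _ (lt_of_lt_of_le (nrm_quot h
      (hA ▸ Nat.pow_le_pow_right hr.out.pos (by decide)) hX h0) (Nat.le_of_lt_succ hn))
      (fn_quot h hX) ((card_quot h hX).trans hA))

theorem complete_of_core' {r : ℕ} [hr : Fact r.Prime]
    (core : ∀ (G : Type u) [Group G] [Finite G] (A : Subgroup G) (θ : G → Subgroup G),
      ¬ Min r A θ) {G : Type u} [Group G] [Finite G] {A : Subgroup G} {θ : G → Subgroup G}
    (h : Fn r A θ) (hA : r ^ 3 ≤ Nat.card A) : Complete r A θ := by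
  obtain ⟨B₀, hB₀⟩ := Sylow.exists_subgroup_card_pow_prime_of_le_card hr.out
    (isPGroup_of_forall_pow_eq_one h.exp) hA
  let B := B₀.map A.subtype
  have hBA : B ≤ A := map_subtype_le _
  have hB : Nat.card B = r ^ 3 := by rw [card_map_of_injective (subtype_injective _), hB₀]
  have hB2 : r ^ 2 ≤ Nat.card B := hB ▸ Nat.pow_le_pow_right hr.out.pos (by decide)
  have h' : Fn r B θ := ⟨⟨⟨fun a b => Subtype.ext (h.commute (hBA a.2) (hBA b.2))⟩⟩, fun a ha => h.exp a (hBA ha),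
    fun a ha => h.cen a (hBA ha), fun a ha => h.cop a (hBA ha),
    fun a ha h1 => hBA.trans (h.inv a (hBA ha) h1), fun a ha => h.solv a (hBA ha),
    fun a ha h1 b hb => h.bal a (hBA ha) h1 b (hBA hb)⟩
  obtain ⟨X, hX, hX'⟩ := complete_of_core core _ G B θ (Nat.lt_succ_self _) h' hB
  let Y : Subgroup G := ⨆ b : {b : G // b ∈ B ∧ b ≠ 1}, θ b
  have hYX : Y ≤ X := iSup_le fun b => hX' b b.2.1 b.2.2
  have hAY : A ≤ normalizer (Y : Set G) := by
    refine le_normalizer_of_conj_mem fun a ha y hy => ?_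
    have : Y ≤ Y.comap (MulAut.conj a).toMonoidHom := iSup_le fun b x hx =>
      mem_iSup_of_mem b (conj_mem_of_le_normalizer (h.inv b (hBA b.2.1) b.2.2) ha hx)
    exact this hy
  have hY := hX.mono hYX (hBA.trans hAY)
  refine h.complete_of_noncyclic hBA hB2 (M := Y) ⟨hAY, hY.cop, hY.solv, fun a ha h1 => ?_⟩
    fun b hb h1 => le_iSup (fun b : {b : G // b ∈ B ∧ b ≠ 1} => θ b) ⟨b, hb, h1⟩
  refine h'.le_of_forall le_rfl hB2 (hY.inf (hBA.trans (h.le_normalizer_cen' ha))) fun b hb h2 x hx =>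
    h.bal b (hBA hb) h2 a ha h1 ⟨hY.le b hb h2 ⟨hx.1.1, hx.2⟩, hx.1.2⟩

/-- The statement follows from the nonexistence of minimal counterexamples. -/
theorem result_of_core {p : ℕ} [hp : Fact p.Prime]
    (core : ∀ (G : Type u) [Group G] [Finite G] (A : Subgroup G) (θ : G → Subgroup G),
      ¬ Min p A θ) {G : Type u} [Group G] [Finite G] (A : Subgroup G)
    (hAcomm : ∀ a ∈ A, ∀ b ∈ A, a * b = b * a) (hAexp : ∀ a ∈ A, a ^ p = 1)
    (hArank : p ^ 3 ≤ Nat.card A) (θ : G → Subgroup G)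
    (hθC : ∀ a ∈ A, a ≠ 1 → θ a ≤ Subgroup.centralizer {a})
    (hθp : ∀ a ∈ A, a ≠ 1 → ¬ p ∣ Nat.card (θ a))
    (hθinv : ∀ a ∈ A, a ≠ 1 → ∀ b ∈ A, ∀ x ∈ θ a, b * x * b⁻¹ ∈ θ a)
    (hθsolv : ∀ a ∈ A, a ≠ 1 → Group.IsSolvable (θ a))
    (hbal : ∀ a ∈ A, a ≠ 1 → ∀ b ∈ A, b ≠ 1 → θ a ⊓ Subgroup.centralizer {b} ≤ θ b) :
    ¬ p ∣ Nat.card ↥(⨆ a : {a : G // a ∈ A ∧ a ≠ 1}, θ a) ∧ ∀ a ∈ A, a ≠ 1 →
      (⨆ b : {a : G // a ∈ A ∧ a ≠ 1}, θ b) ⊓ Subgroup.centralizer {a} = θ a := by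
  have h : Fn p A θ := ⟨⟨⟨fun a b => Subtype.ext (hAcomm a a.2 b b.2)⟩⟩, hAexp, hθC, hθp,
    fun a ha h1 => le_normalizer_of_conj_mem (hθinv a ha h1), hθsolv, hbal⟩
  obtain ⟨X, hX, hX'⟩ := complete_of_core' core h hArank
  have h1 : (⨆ a : {a : G // a ∈ A ∧ a ≠ 1}, θ a) ≤ X := iSup_le fun b => hX' b b.2.1 b.2.2
  refine ⟨fun h2 => hX.cop (h2.trans (card_dvd_of_le h1)), fun a ha h2 => le_antisymm
    ((inf_le_inf_right _ h1).trans (hX.le a ha h2)) (le_inf ?_ (hθC a ha h2))⟩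
  exact le_iSup (fun b : {b : G // b ∈ A ∧ b ≠ 1} => θ b) ⟨a, ha, h2⟩

end Cfsg.Agent.SF
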