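import Cfsg.Agent.SF.B

/-! Solvable signalizer functors: normalizers, the functors `θ_π`, the transitivity theorem. -/

set_option autoImplicit false

namespace Cfsg.Agent.SF

open Subgroup Cfsg.Agent.H2
open scoped commutatorElement Pointwise

variable {G : Type*} [Group G]

/-- The closure `⟨θ a : a ∈ A#⟩`. -/
def cl (A : Subgroup G) (θ : G → Subgroup G) : Subgroup G := ⨆ a ∈ A, ⨆ _ : a ≠ 1, θ a

theorem le_cl {A : Subgroup G} {θ : G → Subgroup G} {a : G} (ha : a ∈ A) (h1 : a ≠ 1) :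
    θ a ≤ cl A θ := le_iSup_of_le a (le_iSup_of_le ha (le_iSup_of_le h1 le_rfl))

theorem cl_le {A : Subgroup G} {θ : G → Subgroup G} {M : Subgroup G}
    (h : ∀ a ∈ A, a ≠ 1 → θ a ≤ M) : cl A θ ≤ M :=
  iSup_le fun a => iSup_le fun ha => iSup_le fun h1 => h a ha h1

theorem le_normalizer_cl [Finite G] {A : Subgroup G} {θ : G → Subgroup G} {D : Subgroup G}
    (h : ∀ a ∈ A, a ≠ 1 → D ≤ normalizer (θ a : Set G)) : D ≤ normalizer (cl A θ : Set G) := by
  refine le_normalizer_of_conj_mem fun d hd y hy => ?_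
  have : cl A θ ≤ (cl A θ).comap (MulAut.conj d).toMonoidHom := cl_le fun a ha h1 x hx =>
    le_cl ha h1 (conj_mem_of_le_normalizer (h a ha h1) hd hx)
  exact this hy

theorem Fn.isT_cl [Finite G] {r : ℕ} {A : Subgroup G} {θ : G → Subgroup G} (h : Fn r A θ)
    (hc : Complete r A θ) : IsT r A θ (cl A θ) :=
  have ⟨_, hX, hX'⟩ := hc
  hX.mono (cl_le hX') (le_normalizer_cl h.inv)

/-- `N_θ(X)`. -/
def nT (A : Subgroup G) (θ : G → Subgroup G) (X : Subgroup G) : Subgroup G :=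
  cl A fun a => θ a ⊓ normalizer (X : Set G)

theorem nT_le (A : Subgroup G) (θ : G → Subgroup G) (X : Subgroup G) :
    nT A θ X ≤ normalizer (X : Set G) := cl_le fun _ _ _ => inf_le_right

/-- The largest `π`-subgroup of `K` normalized by `D`. -/
def opi (π : Set ℕ) (D K : Subgroup G) : Subgroup G :=
  sSup {U | U ≤ K ∧ PiNum π (Nat.card U) ∧ D ≤ normalizer (U : Set G)}

theorem opi_le (π : Set ℕ) (D K : Subgroup G) : opi π D K ≤ K := sSup_le fun _ h => h.1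

theorem le_opi {π : Set ℕ} {D K U : Subgroup G} (h1 : U ≤ K) (h2 : PiNum π (Nat.card U))
    (h3 : D ≤ normalizer (U : Set G)) : U ≤ opi π D K := le_sSup ⟨h1, h2, h3⟩

theorem le_normalizer_opi [Finite G] (π : Set ℕ) (D K : Subgroup G) :
    D ≤ normalizer (opi π D K : Set G) := by
  refine le_normalizer_of_conj_mem fun d hd y hy => ?_
  have : opi π D K ≤ (opi π D K).comap (MulAut.conj d).toMonoidHom := sSup_le fun U hU x hx =>
    le_opi hU.1 hU.2.1 hU.2.2 (conj_mem_of_le_normalizer hU.2.2 hd hx)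
  exact this hy

theorem opi_le_hall [Finite G] {π : Set ℕ} {A D K H : Subgroup G} (hA : A ≤ normalizer (K : Set G))
    (hcop : (Nat.card A).Coprime (Nat.card K)) (hs : Group.IsSolvable K) (hAD : A ≤ D)
    (hD : K ⊓ centralizer (A : Set G) ≤ D) (hH : IsPiHallOf π H K)
    (hAH : A ≤ normalizer (H : Set G)) : opi π D K ≤ H := by
  refine sSup_le fun U hU => ?_
  obtain ⟨L, hL, hUL, hAL⟩ := exists_invariant_hallOf_ge hA hcop hs hU.1 hU.2.1 (hAD.trans hU.2.2)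
  obtain ⟨c, hc, rfl⟩ := exists_centralizer_conj_hallOf hA hcop hs hL hH hAL hAH
  intro u hu
  exact ⟨c⁻¹ * u * c, hUL (conj_mem_of_le_normalizer' hU.2.2 (hD hc) hu), by simp [mul_assoc]⟩

theorem piNum_opi [Finite G] {π : Set ℕ} {A D K : Subgroup G} (hA : A ≤ normalizer (K : Set G))
    (hcop : (Nat.card A).Coprime (Nat.card K)) (hs : Group.IsSolvable K) (hAD : A ≤ D)
    (hD : K ⊓ centralizer (A : Set G) ≤ D) : PiNum π (Nat.card (opi π D K)) := by
  obtain ⟨H, hH, hAH⟩ := exists_invariant_hallOf π hA hcop hs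
  exact (isPiHallOf_iff.mp hH).2.1.of_dvd (card_dvd_of_le (opi_le_hall hA hcop hs hAD hD hH hAH))

/-- The functor `θ_π`. -/
def thPi (π : Set ℕ) (A : Subgroup G) (θ : G → Subgroup G) (a : G) : Subgroup G :=
  opi π (A ⊔ thB θ A) (θ a)

/-- `S` is a maximal `θ`-`p`-subgroup. -/
structure MaxP (r : ℕ) (A : Subgroup G) (θ : G → Subgroup G) (p : ℕ) (S : Subgroup G) : Prop where
  isT : IsT r A θ S
  pgp : IsPGroup p S
  max : ∀ T, IsT r A θ T → IsPGroup p T → S ≤ T → T ≤ S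

/-- `M` is a maximal `θ`-subgroup. -/
structure MaxT (r : ℕ) (A : Subgroup G) (θ : G → Subgroup G) (M : Subgroup G) : Prop where
  isT : IsT r A θ M
  max : ∀ T, IsT r A θ T → M ≤ T → T ≤ M

theorem IsT.exists_maxP [Finite G] {r p : ℕ} {A : Subgroup G} {θ : G → Subgroup G} {X : Subgroup G}
    (h : IsT r A θ X) (hp : IsPGroup p X) : ∃ S, MaxP r A θ p S ∧ X ≤ S := by
  obtain ⟨S, h1, h2⟩ := Finite.exists_le_maximal
    (p := fun S : Subgroup G => IsT r A θ S ∧ IsPGroup p S) (a := X) ⟨h, hp⟩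
  exact ⟨S, ⟨h2.prop.1, h2.prop.2, fun T h3 h4 h5 => h2.le_of_ge ⟨h3, h4⟩ h5⟩, h1⟩

theorem IsT.exists_maxT [Finite G] {r : ℕ} {A : Subgroup G} {θ : G → Subgroup G} {X : Subgroup G}
    (h : IsT r A θ X) : ∃ M, MaxT r A θ M ∧ X ≤ M := by
  obtain ⟨S, h1, h2⟩ := Finite.exists_le_maximal (p := fun S : Subgroup G => IsT r A θ S) (a := X) h
  exact ⟨S, ⟨h2.prop, fun T h3 h5 => h2.le_of_ge h3 h5⟩, h1⟩

namespace Fn

variable [Finite G] {r : ℕ} [hr : Fact r.Prime] {A : Subgroup G} {θ : G → Subgroup G}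
  (h : Fn r A θ)
include h

omit [Finite G] hr h in
theorem thPi_le (π : Set ℕ) (a : G) : thPi π A θ a ≤ θ a := opi_le _ _ _

theorem piNum_opi' (π : Set ℕ) {X : Subgroup G} (hX : IsT r A θ X) :
    PiNum π (Nat.card (opi π (A ⊔ thB θ A) X)) :=
  piNum_opi hX.inv (h.coprime le_rfl hX) hX.solv le_sup_left
    ((hX.inf_le_thB le_rfl).trans le_sup_right)

theorem piNum_thPi (π : Set ℕ) {a : G} (ha : a ∈ A) (h1 : a ≠ 1) :
    PiNum π (Nat.card (thPi π A θ a)) := h.piNum_opi' π (h.isT ha h1)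

theorem fn_thPi (π : Set ℕ) : Fn r A (thPi π A θ) := by
  have h0 : ∀ a ∈ A, a ≠ 1 → IsT r A θ (thPi π A θ a) := fun a ha h1 =>
    (h.isT ha h1).mono (thPi_le π a) (le_sup_left.trans (le_normalizer_opi _ _ _))
  refine ⟨h.comm, h.exp, fun a ha h1 => (thPi_le π a).trans (h.cen a ha h1),
    fun a ha h1 => (h0 a ha h1).cop, fun a ha h1 => (h0 a ha h1).inv,
    fun a ha h1 => (h0 a ha h1).solv, fun a ha h1 b hb h2 => le_opi ((h0 a ha h1).le b hb h2)
      ((h.piNum_thPi π ha h1).of_dvd (card_dvd_of_le inf_le_left))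
      (le_normalizer_inf (le_normalizer_opi _ _ _) (sup_le (h.le_normalizer_cen' hb)
        (((thB_le hb h2).trans (h.cen b hb h2)).trans le_normalizer)))⟩

/-- A `θ`-subgroup all of whose fixed point subgroups are `π`-groups is a `π`-group. -/
theorem piNum_of_forall (hA : r ^ 2 ≤ Nat.card A) {π : Set ℕ} {X : Subgroup G} (hX : IsT r A θ X)
    (hπ : ∀ a ∈ A, a ≠ 1 → PiNum π (Nat.card (X ⊓ centralizer {a} : Subgroup G))) :
    PiNum π (Nat.card X) := by
  intro q hq hd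
  by_contra hqπ
  have : Fact q.Prime := ⟨hq⟩
  obtain ⟨P, h1, h2, h3, h4⟩ := exists_invariant_sylow q hX.inv (h.coprime le_rfl hX) (.inr hX.solv)
  have h5 : P ≤ ⊥ := h.le_of_forall le_rfl hA (hX.mono h1 h4) fun a ha ha1 => by
    obtain ⟨k, hk⟩ := IsPGroup.iff_card.mp (h2.to_inf_left (K := centralizer {a}))
    rcases k with _ | k
    · exact (card_eq_one.mp hk).le
    · refine absurd (hπ a ha ha1 q hq (Dvd.dvd.trans ?_ (card_dvd_of_le (inf_le_inf_right _ h1)))) hqπ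
      rw [hk]; exact dvd_pow_self q k.succ_ne_zero
  rw [le_bot_iff.mp h5, relIndex_bot_left] at h3
  exact h3 hd

theorem MaxP_conj {p : ℕ} {S : Subgroup G} (hS : MaxP r A θ p S) {c : G} (hc : c ∈ thB θ A)
    (hA1 : A ≠ ⊥) : MaxP r A θ p (MulAut.conj c • S) := by
  refine ⟨h.isT_conj hS.isT hc hA1, hS.pgp.map _, fun T h1 h2 h3 => ?_⟩
  have h4 := hS.max (MulAut.conj c⁻¹ • T) (h.isT_conj h1 (inv_mem hc) hA1) (h2.map _)
    fun x hx => ⟨c * x * c⁻¹, h3 ⟨x, hx, rfl⟩, by simp [mul_assoc]⟩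
  exact fun x hx => ⟨c⁻¹ * x * c, h4 ⟨x, hx, by simp⟩, by simp [mul_assoc]⟩

end Fn

namespace Min

variable [Finite G] {r : ℕ} [hr : Fact r.Prime] {A : Subgroup G} {θ : G → Subgroup G}
  (h : Min r A θ)
include h

omit [Finite G] in
theorem card2 : r ^ 2 ≤ Nat.card A := h.card ▸ Nat.pow_le_pow_right hr.out.pos (by decide)

theorem ne_bot : A ≠ ⊥ := fun h1 => by
  have := h.card2
  rw [h1, card_bot] at this
  have := hr.out.one_lt
  nlinarith

theorem isT_nT {X : Subgroup G} (hX : IsT r A θ X) (h0 : X ≠ ⊥) : IsT r A θ (nT A θ X) :=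
  ((h.toFn.restrict (le_normalizer_normalizer hX.inv)).isT_cl (h.lc X hX h0)).of_le
    fun _ _ _ => inf_le_left

theorem le_nT {X Y : Subgroup G} (hY : IsT r A θ Y) (hYX : Y ≤ normalizer (X : Set G)) :
    Y ≤ nT A θ X :=
  h.toFn.le_of_forall le_rfl h.card2 hY fun a ha h1 =>
    (le_inf (hY.le a ha h1) (inf_le_left.trans hYX)).trans
      (le_cl (θ := fun a => θ a ⊓ normalizer (X : Set G)) ha h1)

theorem isT_C : IsT r A θ (thB θ A) := h.toFn.isT_thB le_rfl h.ne_bot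

/-- A maximal `θ`-subgroup contains every `θ`-subgroup normalizing one of its nontrivial invariant
normal subgroups. -/
theorem le_of_maxT {M X Y : Subgroup G} (hM : MaxT r A θ M) (hXM : X ≤ M)
    (hA : A ≤ normalizer (X : Set G)) (hn : M ≤ normalizer (X : Set G)) (h0 : X ≠ ⊥)
    (hY : IsT r A θ Y) (hYX : Y ≤ normalizer (X : Set G)) : Y ≤ M :=
  (h.le_nT hY hYX).trans (hM.max _ (h.isT_nT (hM.isT.mono hXM hA) h0) (h.le_nT hM.isT hn))

theorem not_forall_le {B M : Subgroup G} (hB : B ≤ A) (hB2 : r ^ 2 ≤ Nat.card B)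
    (hM : IsT r A θ M) : ¬ ∀ b ∈ B, b ≠ 1 → θ b ≤ M := fun h1 =>
  h.ncomp (h.toFn.complete_of_noncyclic hB hB2 hM h1)

theorem complete_thPi {π : Set ℕ} (hπ : ∃ a ∈ A, a ≠ 1 ∧ ¬ PiNum π (Nat.card (θ a))) :
    Complete r A (thPi π A θ) := by
  obtain ⟨a, ha, h1, h2⟩ := hπ
  exact h.sub _ (h.toFn.fn_thPi π) (fun a _ _ => Fn.thPi_le π a)
    ⟨a, ha, h1, fun h3 => h2 (h3 ▸ h.toFn.piNum_thPi π ha h1)⟩

/-- The completion of `θ_π` is the largest `θ(A)`-invariant `θ`-`π`-subgroup. -/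
theorem thPi_spec {π : Set ℕ} (hπ : ∃ a ∈ A, a ≠ 1 ∧ ¬ PiNum π (Nat.card (θ a))) :
    IsT r A θ (cl A (thPi π A θ)) ∧ PiNum π (Nat.card (cl A (thPi π A θ))) ∧
      thB θ A ≤ normalizer (cl A (thPi π A θ) : Set G) ∧
      (∀ a ∈ A, a ≠ 1 → cl A (thPi π A θ) ⊓ centralizer {a} = thPi π A θ a) ∧
      ∀ U, IsT r A θ U → PiNum π (Nat.card U) → thB θ A ≤ normalizer (U : Set G) →
        U ≤ cl A (thPi π A θ) := by
  have h1 := (h.toFn.fn_thPi π).isT_cl (h.complete_thPi hπ)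
  have h2 : ∀ a ∈ A, a ≠ 1 → cl A (thPi π A θ) ⊓ centralizer {a} = thPi π A θ a := fun a ha h3 =>
    le_antisymm (h1.le a ha h3) (le_inf (le_cl ha h3) ((h.toFn.fn_thPi π).cen a ha h3))
  refine ⟨h1.of_le fun a _ _ => Fn.thPi_le π a, (h.toFn.fn_thPi π).piNum_of_forall h.card2 h1
    fun a ha h3 => h2 a ha h3 ▸ h.toFn.piNum_thPi π ha h3,
    le_normalizer_cl fun a _ _ => le_sup_right.trans (le_normalizer_opi _ _ _), h2,
    fun U hU hU1 hU2 => h.toFn.le_of_forall le_rfl h.card2 hU fun a ha h3 => ?_⟩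
  exact (le_opi (hU.le a ha h3) (hU1.of_dvd (card_dvd_of_le inf_le_left)) (le_normalizer_inf
    (sup_le hU.inv hU2) (sup_le (h.toFn.le_normalizer_cen' ha)
      (((thB_le ha h3).trans (h.cen a ha h3)).trans le_normalizer)))).trans
        (le_cl (θ := thPi π A θ) ha h3)

omit hr in
/-- Two hyperplanes of `A` meet nontrivially. -/
theorem exists_mem_inf [hr : Fact r.Prime] {B D : Subgroup G} (hB : B ≤ A) (hD : D ≤ A)
    (hB2 : Nat.card A = Nat.card B * r) (hD2 : Nat.card A = Nat.card D * r) :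
    ∃ a ∈ B, a ∈ D ∧ a ≠ 1 := by
  by_contra! hcon
  have h1 : B ⊓ D = ⊥ := eq_bot_iff.mpr fun a ha => mem_bot.mpr (hcon a ha.1 ha.2)
  have h2 := card_sup_mul_card_inf (H := B) (K := D)
    (hB.trans ((h.toFn.le_centralizer hD).trans (centralizer_le_normalizer _)))
  have h3 := card_le_of_le (sup_le hB hD)
  rw [h1, card_bot, mul_one] at h2
  rw [h2, h.card] at h3
  rw [h.card] at hB2 hD2
  have h4 := hr.out.one_lt
  have h5 : Nat.card B = r ^ 2 := Nat.eq_of_mul_eq_mul_right hr.out.pos (by rw [← hB2]; ring)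
  have h6 : Nat.card D = r ^ 2 := Nat.eq_of_mul_eq_mul_right hr.out.pos (by rw [← hD2]; ring)
  rw [h5, h6, ← pow_add] at h3
  exact absurd ((Nat.pow_le_pow_iff_right h4).mp h3) (by decide)

/-- A nontrivial `θ`-subgroup has nontrivial fixed points under some hyperplane. -/
theorem exists_hyp {X : Subgroup G} (hX : IsT r A θ X) (h0 : X ≠ ⊥) :
    ∃ B ≤ A, Nat.card A = Nat.card B * r ∧ X ⊓ centralizer (B : Set G) ≠ ⊥ := by
  by_contra! hcon
  exact h0 (le_bot_iff.mp (h.toFn.le_of_forall_hyp le_rfl h.ne_bot hX fun D h1 h2 =>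
    (hcon D h1 h2).le))

/-- **Transitivity theorem.** -/
theorem transitivity {p : ℕ} [Fact p.Prime] {S T : Subgroup G} (hS : MaxP r A θ p S)
    (hT : MaxP r A θ p T) : ∃ c ∈ thB θ A, MulAut.conj c • S = T := by
  have hA1 := h.ne_bot
  have trans : ∀ {S T U : Subgroup G}, (∃ c ∈ thB θ A, MulAut.conj c • S = T) →
      (∃ c ∈ thB θ A, MulAut.conj c • T = U) → ∃ c ∈ thB θ A, MulAut.conj c • S = U := by
    rintro S _ _ ⟨c, hc, rfl⟩ ⟨d, hd, rfl⟩
    exact ⟨d * c, mul_mem hd hc, by rw [map_mul, mul_smul]⟩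
  suffices key : ∀ n, ∀ S T : Subgroup G, MaxP r A θ p S → MaxP r A θ p T →
      Nat.card G - Nat.card (S ⊓ T : Subgroup G) < n → ∃ c ∈ thB θ A, MulAut.conj c • S = T from
    key _ S T hS hT (Nat.lt_succ_self _)
  intro n
  induction n with
  | zero => intro _ _ _ _ h1; exact absurd h1 (Nat.not_lt_zero _)
  | succ n ih =>
    intro S T hS hT hn
    have ih' : ∀ S' T' : Subgroup G, MaxP r A θ p S' → MaxP r A θ p T' → ∀ V ≤ S' ⊓ T',
        Nat.card (S ⊓ T : Subgroup G) < Nat.card V → ∃ c ∈ thB θ A, MulAut.conj c • S' = T' :=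
      fun S' T' h1 h2 V h3 h4 => ih S' T' h1 h2 (by
        have h5 := card_le_of_le h3
        have h6 := card_le_card_group (S' ⊓ T')
        omega)
    have step : ∀ H, IsT r A θ H → Nat.card (S ⊓ T : Subgroup G) < Nat.card (S ⊓ H : Subgroup G) →
        Nat.card (S ⊓ T : Subgroup G) < Nat.card (T ⊓ H : Subgroup G) →
        ∃ c ∈ thB θ A, MulAut.conj c • S = T := by
      intro H hH h1 h2
      have hcop := h.toFn.coprime le_rfl hH
      obtain ⟨P, a1, a2, a3, a4, a5⟩ := exists_invariant_sylow_ge hH.inv hcop (.inr hH.solv)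
        (Q := S ⊓ H) inf_le_right hS.pgp.to_inf_left (le_normalizer_inf hS.isT.inv hH.inv)
      obtain ⟨Q, b1, b2, b3, b4, b5⟩ := exists_invariant_sylow_ge hH.inv hcop (.inr hH.solv)
        (Q := T ⊓ H) inf_le_right hT.pgp.to_inf_left (le_normalizer_inf hT.isT.inv hH.inv)
      obtain ⟨c, hc, hPQ⟩ := exists_centralizer_conj_sylow hH.inv hcop (.inr hH.solv) a2 a3 a4 a5
        b2 b3 b4 b5
      have hc' := hH.inf_le_thB le_rfl hc
      obtain ⟨S', hS', hPS⟩ := (hH.mono a2 a5).exists_maxP a3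
      refine trans (ih' S S' hS hS' (S ⊓ H) (le_inf inf_le_left (a1.trans hPS)) h1)
        (trans ⟨c, hc', rfl⟩ (ih' _ T (h.toFn.MaxP_conj hS' hc' hA1) hT (T ⊓ H)
          (le_inf (b1.trans ?_) inf_le_left) h2))
      rw [← hPQ]
      exact map_mono hPS
    by_cases hST : S ≤ T
    · exact ⟨1, one_mem _, by rw [map_one, one_smul]; exact le_antisymm hST (hS.max T hT.isT hT.pgp hST)⟩
    have hTS : ¬ T ≤ S := fun h1 => hST (hT.max S hS.isT hS.pgp h1)
    by_cases h0 : S ⊓ T = ⊥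
    · obtain ⟨B, hB, hB2, hB3⟩ := h.exists_hyp hS.isT fun h1 => hST (h1 ▸ bot_le)
      obtain ⟨D, hD, hD2, hD3⟩ := h.exists_hyp hT.isT fun h1 => hTS (h1 ▸ bot_le)
      obtain ⟨a, haB, haD, ha1⟩ := h.exists_mem_inf hB hD hB2 hD2
      have h1 : ∀ X B : Subgroup G, IsT r A θ X → a ∈ B → X ⊓ centralizer (B : Set G) ≠ ⊥ →
          Nat.card (S ⊓ T : Subgroup G) < Nat.card (X ⊓ θ a : Subgroup G) := fun X B hX ha h1 => by
        rw [h0]
        refine card_lt_of_lt (bot_lt_iff_ne_bot.mpr fun h2 => h1 (le_bot_iff.mp (h2 ▸ ?_)))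
        exact fun x hx => ⟨hx.1, hX.mem (hB haB) ha1 hx.1 (hx.2 a ha).symm⟩
      exact step _ (h.toFn.isT (hB haB) ha1) (h1 S B hS.isT haB hB3) (h1 T D hT.isT haD hD3)
    · have hD := hS.isT.inf hT.isT.inv
      have h1 : ∀ X : Subgroup G, MaxP r A θ p X → S ⊓ T < X →
          Nat.card (S ⊓ T : Subgroup G) < Nat.card (X ⊓ nT A θ (S ⊓ T) : Subgroup G) :=
        fun X hX h1 => by
        have := hX.pgp.isNilpotent
        exact card_lt_of_lt ((lt_inf_normalizer_of_nilpotent h1).trans_le (le_inf inf_le_left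
          (h.le_nT (hX.isT.inf (le_normalizer_normalizer hD.inv)) inf_le_right)))
      exact step _ (h.isT_nT hD h0) (h1 S hS (inf_lt_left.mpr hST)) (h1 T hT (inf_lt_right.mpr hTS))

/-- A maximal `θ`-`p`-subgroup has a `θ(A)`-conjugate meeting a given `θ`-subgroup in a Sylow
subgroup. -/
theorem exists_conj_sylow {p : ℕ} [Fact p.Prime] {S H : Subgroup G} (hS : MaxP r A θ p S)
    (hH : IsT r A θ H) : ∃ c ∈ thB θ A, ¬ p ∣ (MulAut.conj c • S).relIndex H := by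
  obtain ⟨P, h1, h2, h3, h4⟩ := exists_invariant_sylow p hH.inv (h.toFn.coprime le_rfl hH)
    (.inr hH.solv)
  obtain ⟨T, hT, hPT⟩ := (hH.mono h1 h4).exists_maxP h2
  obtain ⟨c, hc, rfl⟩ := h.transitivity hS hT
  exact ⟨c, hc, fun h5 => h3 (h5.trans (relIndex_dvd_of_le_left _ hPT))⟩

/-- A maximal `θ`-`p`-subgroup meets every `θ(A)`-invariant `θ`-subgroup in a Sylow subgroup. -/
theorem sylow_of_le {p : ℕ} [Fact p.Prime] {S H : Subgroup G} (hS : MaxP r A θ p S)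
    (hH : IsT r A θ H) (hC : thB θ A ≤ normalizer (H : Set G)) : ¬ p ∣ S.relIndex H := by
  obtain ⟨c, hc, h1⟩ := h.exists_conj_sylow hS hH
  rwa [← conj_smul_eq_iff.mpr (hC hc), relIndex_pointwise_smul] at h1

/-- A `θ`-subgroup containing a maximal `θ`-`p`-subgroup has it as a Sylow subgroup. -/
theorem sylow_of_ge {p : ℕ} [Fact p.Prime] {S H : Subgroup G} (hS : MaxP r A θ p S)
    (hH : IsT r A θ H) (hSH : S ≤ H) : ¬ p ∣ S.relIndex H := by
  obtain ⟨P, h1, h2, h3, h4, h5⟩ := exists_invariant_sylow_ge hH.inv (h.toFn.coprime le_rfl hH)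
    (.inr hH.solv) hSH hS.pgp hS.isT.inv
  rwa [le_antisymm (hS.max P (hH.mono h2 h5) h3 h1) h1] at h4

end Min

end Cfsg.Agent.SF
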