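import Cfsg.Agent.SF.C

/-! The Brauer-Wielandt formula and products of `θ`-subgroups. -/

set_option autoImplicit false

namespace Cfsg.Agent.SF

open Subgroup Cfsg.Agent.H2
open scoped commutatorElement Pointwise

variable {G : Type*} [Group G] [Finite G]

/-- The nonidentity elements of `B`. -/
noncomputable def nz (B : Subgroup G) : Finset G := (Set.toFinite {b | b ∈ B ∧ b ≠ 1}).toFinset

theorem mem_nz {B : Subgroup G} {b : G} : b ∈ nz B ↔ b ∈ B ∧ b ≠ 1 := by
  simp [nz]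

theorem card_nz (B : Subgroup G) : (nz B).card = Nat.card B - 1 := by
  have h1 : {b | b ∈ B ∧ b ≠ 1} = (B : Set G) \ {1} := rfl
  rw [nz, ← Set.ncard_eq_toFinset_card, h1, Set.ncard_sdiff_singleton_of_mem (one_mem B)]
  rfl

theorem card_inf_cen_step {D X M : Subgroup G} (hX : D ≤ normalizer (X : Set G))
    (hM : D ≤ normalizer (M : Set G)) (hcop : (Nat.card D).Coprime (Nat.card X)) (hs : Group.IsSolvable X) (hMX : M ≤ X)
    (hn : X ≤ normalizer (M : Set G))
    (hirr : (X ⊓ centralizer (D : Set G)) ⊔ M = M ∨ (X ⊓ centralizer (D : Set G)) ⊔ M = X) :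
    (⁅X, D⁆ ≤ M → Nat.card (X ⊓ centralizer (D : Set G) : Subgroup G) =
      Nat.card (M ⊓ centralizer (D : Set G) : Subgroup G) * M.relIndex X) ∧
    (¬ ⁅X, D⁆ ≤ M → Nat.card (X ⊓ centralizer (D : Set G) : Subgroup G) =
      Nat.card (M ⊓ centralizer (D : Set G) : Subgroup G)) := by
  have h1 := card_inf_mul_relIndex M (X ⊓ centralizer (D : Set G))
  rw [← inf_assoc, inf_eq_left.mpr hMX,
    ← relIndex_sup_of_le_normalizer (inf_le_left.trans hn)] at h1
  refine ⟨fun h2 => ?_, fun h2 => ?_⟩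
  · rw [← h1, le_antisymm (sup_le inf_le_left hMX)
      (centralizer_sup_of_commutator_le hX hcop (.inr hs) h2)]
  · rcases hirr with h3 | h3
    · rw [← h1, h3, relIndex_self, mul_one]
    · refine absurd ?_ h2
      rw [← h3]
      refine commutator_sup_left_le (inf_le_left.trans hn) le_normalizer ?_ ?_
      · rw [commutator_eq_bot_iff_le_centralizer.mpr inf_le_right]; exact bot_le
      · exact commutator_le_left_of_le_normalizer hM

/-- **Brauer-Wielandt formula**, as a product over the nonidentity elements of `B`. -/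
theorem wielandt {r : ℕ} [hr : Fact r.Prime] {B : Subgroup G} (hB : IsMulCommutative B)
    (hexp : ∀ b ∈ B, b ^ r = 1) (hcard : Nat.card B = r ^ 2) (X : Subgroup G)
    (hX : B ≤ normalizer (X : Set G)) (hcop : ¬ r ∣ Nat.card X) (hs : Group.IsSolvable X) :
    ∏ b ∈ nz B, Nat.card (X ⊓ centralizer {b} : Subgroup G) =
      (Nat.card X * Nat.card (X ⊓ centralizer (B : Set G) : Subgroup G) ^ r) ^ (r - 1) := by
  classical
  induction X using WellFoundedLT.induction with | ind X ih => ?_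
  by_cases h0 : X = ⊥
  · simp [h0]
  obtain ⟨M, hPM, hM⟩ := Finite.exists_le_maximal
    (p := fun M : Subgroup G => M < X ∧ B ≤ normalizer (M : Set G)) (a := ⁅X, X⁆)
    ⟨commutator_self_lt_of_solvable hs h0, le_normalizer_commutator hX hX⟩
  have hirr : ∀ W : Subgroup G, M ≤ W → W ≤ X → B ≤ normalizer (W : Set G) → W = M ∨ W = X :=
    fun W h1 h2 h3 => by
      rcases h2.eq_or_lt with h4 | h4
      · exact Or.inr h4
      · exact Or.inl (le_antisymm (hM.2 ⟨h4, h3⟩ h1) h1)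
  have hMX := hM.1.1.le
  have hn : X ≤ normalizer (M : Set G) :=
    le_normalizer_iff_commutator_le_left.mpr ((commutator_mono hMX le_rfl).trans hPM)
  have step := fun (D : Subgroup G) (hD : D ≤ B) => card_inf_cen_step (hD.trans hX)
    (hD.trans hM.1.2) (coprime_of_exp (fun a ha => hexp a (hD ha)) hcop) hs hMX hn
    (hirr _ le_sup_right (sup_le inf_le_left hMX) (le_normalizer_sup (le_normalizer_inf hX
      ((show B ≤ centralizer (D : Set G) from fun b hb d hd =>
        setLike_mul_comm (hD hd) hb).trans le_normalizer)) hM.1.2))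
  have ih' := ih M hM.1.1 hM.1.2 (fun h => hcop (h.trans (card_dvd_of_le hMX)))
    (isSolvable_of_le hMX hs)
  have hr1 := hr.out.one_lt
  by_cases hc : ⁅X, B⁆ ≤ M
  · rw [Finset.prod_congr rfl (g := fun b => Nat.card (M ⊓ centralizer {b} : Subgroup G) *
      M.relIndex X) fun b hb => by
        have hb' := zpowers_le.mpr (mem_nz.mp hb).1
        rw [← centralizer_zpowers, (step _ hb').1 ((commutator_mono le_rfl hb').trans hc)],
      Finset.prod_mul_distrib, ih', Finset.prod_const, card_nz, hcard, (step B le_rfl).1 hc,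
      ← card_mul_relIndex hMX]
    have : r ^ 2 - 1 = (r + 1) * (r - 1) := by
      obtain ⟨s, rfl⟩ : ∃ s, r = s + 1 := ⟨r - 1, by omega⟩
      rw [Nat.add_sub_cancel]; apply Nat.sub_eq_of_eq_add; ring
    rw [this, pow_mul, ← mul_pow]
    congr 1
    ring
  · obtain ⟨D, hDB, hD, a, ha, hDa⟩ := exists_generator_of_irreducible_section hB hX hM.1.2 hM.1.1
      hPM hirr
    have hD1 : Nat.card D = r := by
      obtain ⟨k, hk, hk'⟩ := (Nat.dvd_prime_pow hr.out).mp (hcard ▸ card_dvd_of_le hDB)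
      interval_cases k
      · rw [pow_zero, card_eq_one] at hk'
        rw [hk', bot_sup_eq] at hDa
        exact absurd (hDa ▸ inferInstance) (not_isCyclic_of_card hexp hcard.ge)
      · rw [hk', pow_one]
      · exact absurd (eq_of_le_of_card_ge hDB (by rw [hk', hcard]) ▸ hD) hc
    have hiff : ∀ b ∈ B, ⁅X, zpowers b⁆ ≤ M ↔ b ∈ D := fun b hb => by
      refine ⟨fun h1 => ?_, fun h1 => (commutator_mono le_rfl (zpowers_le.mpr h1)).trans hD⟩
      rcases eq_or_eq_of_card_eq_mul_prime (p := r) (le_sup_left : D ≤ D ⊔ zpowers b)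
        (sup_le hDB (zpowers_le.mpr hb)) (by rw [hD1, hcard, sq]) with h2 | h2
      · exact h2 ▸ mem_sup_right (mem_zpowers b)
      · exact absurd (h2 ▸ commutator_sup_right_le (hDB.trans hM.1.2)
          ((zpowers_le.mpr hb).trans hM.1.2) hD h1) hc
    rw [Finset.prod_congr rfl (g := fun b => Nat.card (M ⊓ centralizer {b} : Subgroup G) *
      if b ∈ D then M.relIndex X else 1) fun b hb => by
        have hb' := zpowers_le.mpr (mem_nz.mp hb).1
        rw [← centralizer_zpowers]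
        split_ifs with h1
        · exact (step _ hb').1 ((hiff b (mem_nz.mp hb).1).mpr h1)
        · rw [mul_one]; exact (step _ hb').2 fun h2 => h1 ((hiff b (mem_nz.mp hb).1).mp h2),
      Finset.prod_mul_distrib, ih', Finset.prod_ite, Finset.prod_const_one, mul_one,
      Finset.prod_const, show (nz B).filter (· ∈ D) = nz D from Finset.ext fun b => by
        rw [Finset.mem_filter, mem_nz, mem_nz]
        exact ⟨fun h => ⟨h.2, h.1.2⟩, fun h => ⟨⟨hDB h.1, h.2⟩, h.1⟩⟩,
      card_nz, hD1, (step B le_rfl).2 hc, ← card_mul_relIndex hMX, ← mul_pow]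
    congr 1
    ring

/-- Every element of `L` is a product of an element of `X` and one of `Y`. -/
def IsProd (L X Y : Subgroup G) : Prop := ∀ g ∈ L, ∃ x ∈ X, ∃ y ∈ Y, g = x * y

theorem isProd_iff_relIndex {L X Y : Subgroup G} (hX : X ≤ L) :
    IsProd L X Y ↔ Y.relIndex X = Y.relIndex L := by
  let f := quotientSubgroupOfEmbeddingOfLE Y hX
  have h1 : IsProd L X Y ↔ Function.Surjective f := by
    constructor
    · intro h q
      obtain ⟨g, rfl⟩ := QuotientGroup.mk_surjective q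
      obtain ⟨x, hx, y, hy, e⟩ := h g g.2
      refine ⟨(⟨x, hx⟩ : X), QuotientGroup.eq.mpr ?_⟩
      change x⁻¹ * g ∈ Y
      rwa [e, inv_mul_cancel_left]
    · intro h g hg
      obtain ⟨q, hq⟩ := h (⟨g, hg⟩ : L)
      obtain ⟨x, rfl⟩ := QuotientGroup.mk_surjective q
      have h1 : (inclusion hX x)⁻¹ * ⟨g, hg⟩ ∈ Y.subgroupOf L := QuotientGroup.eq.mp hq
      exact ⟨x, x.2, (x : G)⁻¹ * g, h1, by simp⟩
  rw [h1]
  exact ⟨fun h => Nat.card_congr (Equiv.ofBijective f ⟨f.injective, h⟩),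
    fun h => (f.injective.bijective_of_nat_card_le h.ge).2⟩

theorem isProd_iff_card {L X Y : Subgroup G} (hX : X ≤ L) (hY : Y ≤ L) :
    IsProd L X Y ↔ Nat.card L * Nat.card (X ⊓ Y : Subgroup G) = Nat.card X * Nat.card Y := by
  rw [isProd_iff_relIndex hX, ← card_mul_relIndex hY, ← card_inf_mul_relIndex Y X, inf_comm Y X]
  have h1 : 0 < Nat.card Y := Nat.card_pos
  have h2 : 0 < Nat.card (X ⊓ Y : Subgroup G) := Nat.card_pos
  constructor
  · intro h; rw [h]; ring
  · intro h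
    refine Nat.eq_of_mul_eq_mul_left (Nat.mul_pos h1 h2) ?_
    linarith

omit [Finite G] in
theorem IsProd.symm {L X Y : Subgroup G} (h : IsProd L X Y) : IsProd L Y X := fun g hg => by
  obtain ⟨x, hx, y, hy, e⟩ := h g⁻¹ (inv_mem hg)
  exact ⟨y⁻¹, inv_mem hy, x⁻¹, inv_mem hx, by rw [← mul_inv_rev, ← e, inv_inv]⟩

/-- (CP) A fixed point in a product of invariant subgroups is a product of fixed points. -/
theorem exists_cen_mul_cen {D X Y : Subgroup G} (hX : D ≤ normalizer (X : Set G))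
    (hY : D ≤ normalizer (Y : Set G))
    (hcop : (Nat.card D).Coprime (Nat.card (X ⊓ Y : Subgroup G)))
    (hs : Group.IsSolvable D ∨ Group.IsSolvable (X ⊓ Y : Subgroup G)) {x y : G} (hx : x ∈ X)
    (hy : y ∈ Y) (hc : x * y ∈ centralizer (D : Set G)) :
    ∃ x' ∈ X ⊓ centralizer (D : Set G), ∃ y' ∈ Y ⊓ centralizer (D : Set G), x * y = x' * y' := by
  obtain ⟨c, hc', n, hn, rfl⟩ := exists_centralizer_mul (A := D) (N := X ⊓ Y)
    (le_normalizer_inf hX hY) hcop hs (x := x) (fun b hb => by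
      rw [show x⁻¹ * b * x * b⁻¹ = x⁻¹ * (b * x * b⁻¹) by group]
      refine mem_inf.mpr ⟨mul_mem (inv_mem hx) (conj_mem_of_le_normalizer hX hb hx), ?_⟩
      have : x⁻¹ * (b * x * b⁻¹) = y * (b * y * b⁻¹)⁻¹ := by
        calc _ = x⁻¹ * (b * (x * y)) * y⁻¹ * b⁻¹ := by group
          _ = _ := by rw [hc b hb]; group
      rw [this]
      exact mul_mem hy (inv_mem (conj_mem_of_le_normalizer hY hb hy)))
  refine ⟨c, mem_inf.mpr ⟨by simpa using mul_mem hx (inv_mem hn.1), hc'⟩, n * y,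
    mem_inf.mpr ⟨mul_mem hn.2 hy, ?_⟩, mul_assoc _ _ _⟩
  simpa [mul_assoc] using mul_mem (inv_mem hc') hc

theorem IsProd.inf_cen {D L X Y : Subgroup G} (h : IsProd L X Y) (hX : D ≤ normalizer (X : Set G))
    (hY : D ≤ normalizer (Y : Set G))
    (hcop : (Nat.card D).Coprime (Nat.card (X ⊓ Y : Subgroup G)))
    (hs : Group.IsSolvable D ∨ Group.IsSolvable (X ⊓ Y : Subgroup G)) :
    IsProd (L ⊓ centralizer (D : Set G)) (X ⊓ centralizer (D : Set G))
      (Y ⊓ centralizer (D : Set G)) := fun g hg => by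
  obtain ⟨x, hx, y, hy, rfl⟩ := h g hg.1
  exact exists_cen_mul_cen hX hY hcop hs hx hy hg.2

/-- (PT) Local products give a global product. -/
theorem isProd_of_forall {r : ℕ} [hr : Fact r.Prime] {B L X Y : Subgroup G}
    (hB : IsMulCommutative B) (hexp : ∀ b ∈ B, b ^ r = 1) (hcard : Nat.card B = r ^ 2)
    (hL : B ≤ normalizer (L : Set G)) (hX : B ≤ normalizer (X : Set G))
    (hY : B ≤ normalizer (Y : Set G)) (hcop : ¬ r ∣ Nat.card L) (hs : Group.IsSolvable L)
    (hXL : X ≤ L) (hYL : Y ≤ L) (h : ∀ b ∈ B, b ≠ 1 →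
      IsProd (L ⊓ centralizer {b}) (X ⊓ centralizer {b}) (Y ⊓ centralizer {b})) :
    IsProd L X Y := by
  have w := fun (Z : Subgroup G) (hZ : Z ≤ L) (hn : B ≤ normalizer (Z : Set G)) =>
    wielandt hB hexp hcard Z hn (fun h => hcop (h.trans (card_dvd_of_le hZ))) (isSolvable_of_le hZ hs)
  have hI : ∀ T : Subgroup G, X ⊓ T ⊓ (Y ⊓ T) = X ⊓ Y ⊓ T := fun T => (inf_inf_distrib_right ..).symm
  have h1 : (∏ b ∈ nz B, Nat.card (L ⊓ centralizer {b} : Subgroup G)) *
      ∏ b ∈ nz B, Nat.card (X ⊓ Y ⊓ centralizer {b} : Subgroup G) =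
      (∏ b ∈ nz B, Nat.card (X ⊓ centralizer {b} : Subgroup G)) *
      ∏ b ∈ nz B, Nat.card (Y ⊓ centralizer {b} : Subgroup G) := by
    rw [← Finset.prod_mul_distrib, ← Finset.prod_mul_distrib]
    refine Finset.prod_congr rfl fun b hb => ?_
    rw [← hI]
    exact (isProd_iff_card (inf_le_inf_right _ hXL) (inf_le_inf_right _ hYL)).mp
      (h b (mem_nz.mp hb).1 (mem_nz.mp hb).2)
  have h2 : IsProd (L ⊓ centralizer (B : Set G)) (X ⊓ centralizer (B : Set G))
      (Y ⊓ centralizer (B : Set G)) := fun g hg => by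
    obtain ⟨⟨b, hb⟩, hb1⟩ := ne_bot_iff_exists_ne_one.mp (show B ≠ ⊥ from fun h0 =>
      not_isCyclic_of_card hexp hcard.ge (h0 ▸ inferInstance))
    obtain ⟨x, hx, y, hy, rfl⟩ := h b hb (fun h0 => hb1 (Subtype.ext h0)) g
      ⟨hg.1, mem_centralizer_singleton_iff.mpr (hg.2 b hb).symm⟩
    exact exists_cen_mul_cen hX hY (coprime_of_exp hexp fun h =>
      hcop (h.trans (card_dvd_of_le (inf_le_left.trans hXL))))
      (.inr (isSolvable_of_le (inf_le_left.trans hXL) hs)) hx.1 hy.1 hg.2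
  rw [isProd_iff_card (inf_le_inf_right _ hXL) (inf_le_inf_right _ hYL), hI] at h2
  rw [w L le_rfl hL, w _ (inf_le_left.trans hXL) (le_normalizer_inf hX hY), w X hXL hX, w Y hYL hY,
    ← mul_pow, ← mul_pow, Nat.pow_left_inj (Nat.sub_ne_zero_of_lt hr.out.one_lt)] at h1
  rw [isProd_iff_card hXL hYL]
  have h3 : 0 < (Nat.card (X ⊓ centralizer (B : Set G) : Subgroup G) *
      Nat.card (Y ⊓ centralizer (B : Set G) : Subgroup G)) ^ r :=
    Nat.pow_pos (Nat.mul_pos Nat.card_pos Nat.card_pos)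
  refine Nat.eq_of_mul_eq_mul_right h3 ?_
  conv_lhs => rw [← h2]
  rw [mul_pow, mul_pow]
  linarith

/-- (PT) for `θ`-subgroups. -/
theorem Fn.isProd_of_forall {r : ℕ} [hr : Fact r.Prime] {A : Subgroup G} {θ : G → Subgroup G}
    (h : Fn r A θ) {B L X Y : Subgroup G} (hB : B ≤ A) (hcard : Nat.card B = r ^ 2)
    (hL : IsT r A θ L) (hX : B ≤ normalizer (X : Set G)) (hY : B ≤ normalizer (Y : Set G))
    (hXL : X ≤ L) (hYL : Y ≤ L) (hp : ∀ b ∈ B, b ≠ 1 →
      IsProd (L ⊓ centralizer {b}) (X ⊓ centralizer {b}) (Y ⊓ centralizer {b})) :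
    IsProd L X Y :=
  SF.isProd_of_forall ⟨⟨fun a b => Subtype.ext (h.commute (hB a.2) (hB b.2))⟩⟩
    (fun a ha => h.exp a (hB ha)) hcard (hB.trans hL.inv) hX hY hL.cop hL.solv hXL hYL hp

/-- (CP) for `θ`-subgroups. -/
theorem Fn.exists_cen_mul_cen {r : ℕ} [Fact r.Prime] {A : Subgroup G} {θ : G → Subgroup G}
    (h : Fn r A θ) {D X Y : Subgroup G} (hD : D ≤ A) (hX : IsT r A θ X)
    (hY : A ≤ normalizer (Y : Set G)) {x y : G} (hx : x ∈ X) (hy : y ∈ Y)
    (hc : x * y ∈ centralizer (D : Set G)) :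
    ∃ x' ∈ X ⊓ centralizer (D : Set G), ∃ y' ∈ Y ⊓ centralizer (D : Set G), x * y = x' * y' :=
  SF.exists_cen_mul_cen (hD.trans hX.inv) (hD.trans hY) (h.coprime hD (hX.inf hY))
    (.inl (h.solvA hD)) hx hy hc

end Cfsg.Agent.SF
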